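import Groth.Agent.Lib.VRefine5.Main
import Groth.Agent.Lib.VRefine5.HMem
import Groth.Agent.Lib.HTop26.Square
import Mathlib.AlgebraicGeometry.Sites.Etale

/-!
# The sheaf criterion for the big h site

A Zariski sheaf satisfying descent for proper surjections of finite presentation onto affine schemes is an h sheaf.
-/

set_option autoImplicit false
set_option linter.style.haveILetI false
set_option linter.unusedSectionVars false
set_option backward.isDefEq.respectTransparency false
set_option backward.isDefEq.respectTransparency.types false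

universe v' u' w u

open CategoryTheory CategoryTheory.Limits AlgebraicGeometry Opposite TopologicalSpace

noncomputable section

namespace Groth.Agent.HCrit5

section General

variable {C : Type u'} [Category.{v'} C] {J : GrothendieckTopology C} {F : Cᵒᵖ ⥤ Type w}

/-- A sieve whose restrictions to a covering class of objects have the sheaf property is covering in the finest
topology of a sheaf. -/
theorem mem_finest_of_dense (hF : Presieve.IsSheaf J F) (A : C → Prop)
    (hA : ∀ Y : C, ∃ (ι : Type u) (W : ι → C) (b : ∀ i, W i ⟶ Y),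
      Sieve.generate (Presieve.ofArrows W b) ∈ J Y ∧ ∀ i, A (W i))
    {T : C} (S : Sieve T) (h : ∀ Z, A Z → ∀ g : Z ⟶ T, Presieve.IsSheafFor F (S.pullback g).arrows) :
    S ∈ Sheaf.finestTopologySingle F T := by
  intro Y g
  have sep : ∀ (V : C) (k : V ⟶ T), Presieve.IsSeparatedFor F (S.pullback k).arrows := by
    intro V k x t₁ t₂ h₁ h₂
    obtain ⟨ι, W, b, hb, hW⟩ := hA V
    refine (hF _ hb).isSeparatedFor.ext ?_
    rintro V' f ⟨_, a, _, ⟨i⟩, rfl⟩
    have : F.map (b i).op t₁ = F.map (b i).op t₂ := by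
      refine (h _ (hW i) (b i ≫ k)).isSeparatedFor.ext fun V'' f hf => ?_
      have hf' : S.pullback k (f ≫ b i) := by
        simpa [Sieve.pullback_apply, Category.assoc] using hf
      rw [← Functor.map_comp_apply, ← Functor.map_comp_apply, ← op_comp, h₁ _ hf', h₂ _ hf']
    rw [op_comp, Functor.map_comp_apply, Functor.map_comp_apply, this]
  intro x hx
  obtain ⟨ι, W, b, hb, hW⟩ := hA Y
  have hloc : ∀ i, ∃! t : F.obj (op (W i)), ∀ (V : C) (f : V ⟶ W i)
      (hf : S.pullback g (f ≫ b i)), F.map f.op t = x (f ≫ b i) hf := by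
    intro i
    have := h _ (hW i) (b i ≫ g)
    let y : Presieve.FamilyOfElements F (S.pullback (b i ≫ g)).arrows := fun V f hf =>
      x (f ≫ b i) (by simpa [Sieve.pullback_apply, Category.assoc] using hf)
    have hy : y.Compatible := fun V₁ V₂ W g₁ g₂ f₁ f₂ h₁ h₂ he =>
      hx g₁ g₂ _ _ (by simp [reassoc_of% he])
    obtain ⟨t, ht, hu⟩ := this y hy
    refine ⟨t, fun V f hf => ht f (by simpa [Sieve.pullback_apply, Category.assoc] using hf),
      fun t' ht' => hu t' fun V f hf => ht' V f
        (by simpa [Sieve.pullback_apply, Category.assoc] using hf)⟩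
  choose t ht _ using hloc
  have hcomp : Presieve.Arrows.Compatible F b t := by
    intro i j V gi gj he
    refine (sep V (gi ≫ b i ≫ g)).ext fun V' f hf => ?_
    have hi : S.pullback g ((f ≫ gi) ≫ b i) := by
      simpa [Sieve.pullback_apply, Category.assoc] using hf
    have hj : S.pullback g ((f ≫ gj) ≫ b j) := by
      rw [Category.assoc, ← he, ← Category.assoc]; exact hi
    rw [← Functor.map_comp_apply, ← Functor.map_comp_apply, ← op_comp, ← op_comp,
      ht i _ _ hi, ht j _ _ hj]
    congr 1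
    rw [Category.assoc, Category.assoc, he]
  have hz : (Presieve.ofArrows W b).IsSheafFor F := (Presieve.isSheafFor_iff_generate _).mpr (hF _ hb)
  obtain ⟨s, hs, hu⟩ := (Presieve.isSheafFor_arrows_iff F b).mp hz t hcomp
  refine ⟨s, fun V f hf => ?_, fun s' hs' => hu s' fun i => ?_⟩
  · refine (hF _ (J.pullback_stable f hb)).isSeparatedFor.ext fun V' k hk => ?_
    obtain ⟨_, l, _, ⟨i⟩, hl⟩ := hk
    have h' : S.pullback g (l ≫ b i) := by
      rw [hl]; exact (S.pullback g).downward_closed hf k
    rw [← Functor.map_comp_apply, ← op_comp, ← hl, op_comp, Functor.map_comp_apply,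
      hs i, ht i _ _ h']
    rw [← Presieve.FamilyOfElements.comp_of_compatible (S.pullback g) hx hf k]
    congr 1
  · refine (h _ (hW i) (b i ≫ g)).isSeparatedFor.ext fun V f hf => ?_
    have hf' : S.pullback g (f ≫ b i) := by
      simpa [Sieve.pullback_apply, Category.assoc] using hf
    rw [← Functor.map_comp_apply, ← op_comp, hs' _ hf', ht i V f hf']

end General

variable {S : Scheme.{u}}

theorem zariski_le_h : Scheme.zariskiTopology.{u} ≤ HTop.hTopology.{u} := by
  refine Precoverage.toGrothendieck_mono fun X R hR => ?_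
  obtain ⟨E, rfl⟩ := Presieve.exists_eq_preZeroHypercover R
  rw [HTop.presieve₀_mem_hPrecoverage_iff]
  have hE : ∀ i, IsOpenImmersion (E.f i) := fun i => hR.2 ⟨i⟩
  haveI : QuasiCompactCover E := by
    let 𝒰 : X.OpenCover := { toPreZeroHypercover := E, mem₀ := hR }
    exact QuasiCompactCover.of_isOpenMap (𝒰 := 𝒰) fun i => (E.f i).isOpenEmbedding.isOpenMap
  exact ⟨fun i => inferInstance, HTop26.isVCover_of_flat fun i => inferInstance⟩

/-- An open covering is a covering of the big Zariski site. -/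
theorem zariski_over_mem {Y : Over S} {σ : Type u} (O : σ → Y.left.Opens) (hO : ∀ p, ∃ i, p ∈ O i) :
    Sieve.generate (Presieve.ofArrows (fun i => Over.mk ((O i).ι ≫ Y.hom))
      (fun i => (Over.homMk (O i).ι : Over.mk ((O i).ι ≫ Y.hom) ⟶ Y))) ∈ Scheme.zariskiTopology.over S Y := by
  have hc : IsOpenCover O := IsOpenCover.mk (top_le_iff.1 fun p _ => Opens.mem_iSup.2 (hO p))
  rw [GrothendieckTopology.mem_over_iff]
  refine Scheme.zariskiTopology.superset_covering ?_
    (Y.left.openCoverOfIsOpenCover _ hc).mem_grothendieckTopology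
  rw [Sieve.generate_le_iff]
  rintro _ _ ⟨i⟩
  exact ⟨_, _, 𝟙 _, Sieve.le_generate _ _ _ ⟨i⟩, (Category.id_comp _).symm⟩

theorem singleton_mem {U V : Over S} (f : V ⟶ U) [IsProper f.left] [Surjective f.left]
    [LocallyOfFinitePresentation f.left] : Sieve.generate (Presieve.singleton f) ∈ HTop.Jh S U := by
  refine (HTop.Jh S).superset_covering ?_
    (HTop26.h_over_mem (fun _ : PUnit.{u + 1} => f) fun t => ⟨PUnit.unit, f.left.surjective t⟩)
  rw [Sieve.generate_le_iff]
  rintro _ _ ⟨_⟩
  exact Sieve.le_generate _ _ _ ⟨⟩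

theorem isSheaf_Jh_of (F : (Over S)ᵒᵖ ⥤ Type w) (hF : Presieve.IsSheaf (Scheme.zariskiTopology.over S) F)
    (hp : ∀ (U V : Over S) (f : V ⟶ U), IsAffine U.left → IsProper f.left → Surjective f.left →
      LocallyOfFinitePresentation f.left → Presieve.IsSheafFor F (Presieve.singleton f)) :
    Presieve.IsSheaf (HTop.Jh S) F := by
  let K := Sheaf.finestTopologySingle F
  have hZ : ∀ {Y : Over S} {R : Sieve Y}, R ∈ Scheme.zariskiTopology.over S Y → R ∈ K Y :=
    fun hR _ f => hF _ ((Scheme.zariskiTopology.over S).pullback_stable f hR)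
  suffices key : ∀ {U : Over S} {R : Sieve U}, R ∈ HTop.Jh S U → R ∈ K U by
    intro U R hR
    simpa using key hR U (𝟙 U)
  intro U R hR
  obtain ⟨E, hE, hES⟩ := VRefine5.exists_isHCover_of_mem _ ((GrothendieckTopology.mem_over_iff _ _).1 hR)
  let σ : Type u := U.left.affineOpens
  refine K.transitive (hZ (zariski_over_mem (fun V : σ => (V : U.left.Opens)) fun p => ?_)) R ?_
  · obtain ⟨V, hV, hp, -⟩ := exists_isAffineOpen_mem_and_subset (U := ⊤) (Opens.mem_top p)
    exact ⟨⟨V, hV⟩, hp⟩
  rintro Y _ ⟨_, k, _, ⟨V⟩, rfl⟩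
  rw [Sieve.pullback_comp]
  refine K.pullback_stable k ?_
  haveI : IsAffine ((V : U.left.Opens) : Scheme.{u}) := V.2
  obtain ⟨W, q, n, O, hq, hqs, hqfp, -, hsup, hlift⟩ :=
    VRefine5.exists_refinement (V : U.left.Opens).ι E hE.1 hE.2
  let a : Over.mk ((V : U.left.Opens).ι ≫ U.hom) ⟶ U := Over.homMk (V : U.left.Opens).ι
  let q' : Over.mk (q ≫ (V : U.left.Opens).ι ≫ U.hom) ⟶ Over.mk ((V : U.left.Opens).ι ≫ U.hom) := Over.homMk q
  have hq' : Sieve.generate (Presieve.singleton q') ∈ K _ := by
    refine mem_finest_of_dense hF (fun Z : Over S => IsAffine Z.left) (fun Z => ?_) _ fun Z hZa g => ?_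
    · refine ⟨Z.left.affineOpens, _, _, zariski_over_mem (fun V : Z.left.affineOpens => (V : Z.left.Opens)) fun p => ?_,
        fun V => V.2⟩
      obtain ⟨V, hV, hp, -⟩ := exists_isAffineOpen_mem_and_subset (U := ⊤) (Opens.mem_top p)
      exact ⟨⟨V, hV⟩, hp⟩
    · let π : Over.mk (pullback.fst g.left q ≫ Z.hom) ⟶ Z := Over.homMk (pullback.fst g.left q)
      have hgw : g.left ≫ (V : U.left.Opens).ι ≫ U.hom = Z.hom := Over.w g
      have e : (Sieve.generate (Presieve.singleton q')).pullback g = Sieve.generate (Presieve.singleton π) := by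
        ext P m
        constructor
        · rintro ⟨_, l, _, ⟨⟩, hl⟩
          have hl' : l.left ≫ q = m.left ≫ g.left := congrArg CommaMorphism.left hl
          refine ⟨_, Over.homMk (pullback.lift m.left l.left hl'.symm) ?_, _, ⟨⟩, ?_⟩
          · show pullback.lift m.left l.left hl'.symm ≫ pullback.fst g.left q ≫ Z.hom = P.hom
            rw [pullback.lift_fst_assoc]
            exact Over.w m
          · exact Over.OverMorphism.ext (pullback.lift_fst _ _ _)
        · rintro ⟨_, l, _, ⟨⟩, rfl⟩
          let s : Over.mk (pullback.fst g.left q ≫ Z.hom) ⟶ Over.mk (q ≫ (V : U.left.Opens).ι ≫ U.hom) :=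
            Over.homMk (pullback.snd g.left q) (by
              show pullback.snd g.left q ≫ q ≫ _ = pullback.fst g.left q ≫ Z.hom
              rw [← pullback.condition_assoc, hgw])
          refine ⟨_, l ≫ s, _, ⟨⟩, Over.OverMorphism.ext ?_⟩
          show (l.left ≫ pullback.snd g.left q) ≫ q = (l.left ≫ pullback.fst g.left q) ≫ g.left
          rw [Category.assoc, Category.assoc, pullback.condition]
      rw [e, ← Presieve.isSheafFor_iff_generate]
      exact hp _ _ π hZa (MorphismProperty.pullback_fst _ _ hq) (MorphismProperty.pullback_fst _ _ hqs)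
        (MorphismProperty.pullback_fst _ _ hqfp)
  refine K.transitive hq' _ ?_
  rintro P _ ⟨_, l, _, ⟨⟩, rfl⟩
  rw [Sieve.pullback_comp]
  refine K.pullback_stable l (K.superset_covering ?_
    (hZ (zariski_over_mem (fun j : ULift.{u} (Fin n) => O j.down) fun p => ?_)))
  · rw [Sieve.generate_le_iff]
    rintro _ _ ⟨j⟩
    obtain ⟨i, h, hh⟩ := hlift j.down
    have hi : R (Over.homMk (E.f i) : Over.mk (E.f i ≫ U.hom) ⟶ U) := (Sieve.overEquiv_iff R _).1 (hES i)
    have := R.downward_closed hi (Over.homMk h (by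
      show h ≫ E.f i ≫ U.hom = (O j.down).ι ≫ q ≫ (V : U.left.Opens).ι ≫ U.hom
      rw [reassoc_of% hh]) : Over.mk ((O j.down).ι ≫ q ≫ (V : U.left.Opens).ι ≫ U.hom) ⟶ Over.mk (E.f i ≫ U.hom))
    show R ((_ ≫ q') ≫ a)
    refine (congrArg (fun m => R m) (Over.OverMorphism.ext ?_)).mpr this
    exact (Category.assoc _ _ _).trans hh.symm
  · obtain ⟨j, hj⟩ := Opens.mem_iSup.1 (hsup.ge (Opens.mem_top p))
    exact ⟨⟨j⟩, hj⟩

theorem isSheaf_Jh_iff (F : (Over S)ᵒᵖ ⥤ Type w) :
    Presieve.IsSheaf (HTop.Jh S) F ↔ (Presieve.IsSheaf (Scheme.zariskiTopology.over S) F ∧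
      ∀ (U V : Over S) (f : V ⟶ U), IsAffine U.left → IsProper f.left → Surjective f.left →
        LocallyOfFinitePresentation f.left → Presieve.IsSheafFor F (Presieve.singleton f)) := by
  refine ⟨fun h => ⟨fun U R hR => h R ?_, fun U V f _ _ _ _ => ?_⟩, fun h => isSheaf_Jh_of F h.1 h.2⟩
  · rw [GrothendieckTopology.mem_over_iff] at hR ⊢
    exact zariski_le_h _ hR
  · exact (Presieve.isSheafFor_iff_generate _).2 (h _ (singleton_mem f))

end Groth.Agent.HCrit5

end
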